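import Groth.Agent.L13.LerayFive.Derived
import Groth.Agent.L13.RatSing.PushInj
import Groth.Agent.L22.PDual.TwistExt
import Groth.Agent.L21.RR.RingSections
import Mathlib.RingTheory.Length

/-!
# The five term sequence of a morphism, in terms of lengths
-/

set_option autoImplicit false
set_option linter.style.haveILetI false
set_option backward.isDefEq.respectTransparency false

universe u

open CategoryTheory CategoryTheory.Limits AlgebraicGeometry TopologicalSpace Opposite
open Groth.L16.CohLinear (hmap hmap_comp delta exact_hmap_hmap exact_hmap_delta exact_delta_hmap)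
open Groth.L21.RR (e0 e0_hmap)

noncomputable section

namespace Groth.L13.LerayFive

theorem length_quotient_range {A : Type*} [CommRing A] {P Q K G B N : Type*}
    [AddCommGroup P] [Module A P] [AddCommGroup Q] [Module A Q] [AddCommGroup K] [Module A K]
    [AddCommGroup G] [Module A G] [AddCommGroup B] [Module A B] [AddCommGroup N] [Module A N]
    (u : P →ₗ[A] K) (v : K →ₗ[A] Q) (hv : Function.Injective v)
    (δ₁ : K →ₗ[A] G) (h₁ : Function.Exact u δ₁) (s₁ : Function.Surjective δ₁)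
    (δ : Q →ₗ[A] B) (h : Function.Exact (v.comp u) δ) (s : Function.Surjective δ)
    (w : Q →ₗ[A] N) (h₂ : Function.Exact v w) (s₂ : Function.Surjective w) :
    Module.length A B = Module.length A G + Module.length A N := by
  have ha : ∀ k, δ₁ k = 0 ↔ δ (v k) = 0 := fun k => by
    rw [h₁ k, h (v k)]
    exact ⟨fun ⟨p, hp⟩ => ⟨p, by simp [hp]⟩, fun ⟨p, hp⟩ => ⟨p, hv (by simpa using hp)⟩⟩
  let a : G →ₗ[A] B :=
    ((LinearMap.ker δ₁).liftQ (δ.comp v) fun k hk => (ha k).1 hk).comp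
      (LinearMap.quotKerEquivOfSurjective δ₁ s₁).symm.toLinearMap
  have ha' : ∀ k, a (δ₁ k) = δ (v k) := fun k => by
    have : (LinearMap.quotKerEquivOfSurjective δ₁ s₁).symm (δ₁ k) = Submodule.Quotient.mk k :=
      (LinearEquiv.symm_apply_eq _).2 rfl
    simp [a, this]
  have hw : ∀ q, δ q = 0 → w q = 0 := fun q hq => by
    obtain ⟨p, rfl⟩ := (h q).1 hq
    exact (h₂ _).2 ⟨u p, rfl⟩
  let b : B →ₗ[A] N :=
    ((LinearMap.ker δ).liftQ w fun q hq => hw q hq).comp
      (LinearMap.quotKerEquivOfSurjective δ s).symm.toLinearMap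
  have hb' : ∀ q, b (δ q) = w q := fun q => by
    have : (LinearMap.quotKerEquivOfSurjective δ s).symm (δ q) = Submodule.Quotient.mk q :=
      (LinearEquiv.symm_apply_eq _).2 rfl
    simp [b, this]
  refine Module.length_eq_add_of_exact a b ?_ ?_ ?_
  · refine (injective_iff_map_eq_zero a).2 fun x hx => ?_
    obtain ⟨k, rfl⟩ := s₁ x
    exact (ha k).2 ((ha' k).symm.trans hx)
  · intro n
    obtain ⟨q, rfl⟩ := s₂ n
    exact ⟨δ q, hb' q⟩
  · intro x
    obtain ⟨q, rfl⟩ := s x
    constructor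
    · intro hq
      obtain ⟨k, rfl⟩ := (h₂ q).1 ((hb' q).symm.trans hq)
      exact ⟨δ₁ k, ha' k⟩
    · rintro ⟨y, hy⟩
      obtain ⟨k, rfl⟩ := s₁ y
      rw [← hy, ha', hb']
      exact (h₂ _).2 ⟨k, rfl⟩

variable {X' X : Scheme.{u}} (g : X' ⟶ X)

/-- Sections of a direct image are sections on the source. -/
def pushH0 (M : X'.Modules) : Coh.HH X ((Scheme.Modules.pushforward g).obj M) 0 ≃+ Coh.HH X' M 0 :=
  (e0 ((Scheme.Modules.pushforward g).obj M)).trans (e0 M).symm

theorem pushH0_hmap {M N : X'.Modules} (φ : M ⟶ N) (x : Coh.HH X ((Scheme.Modules.pushforward g).obj M) 0) :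
    pushH0 g N (hmap ((Scheme.Modules.pushforward g).map φ) 0 x) = hmap φ 0 (pushH0 g M x) := by
  apply (e0 N).injective
  show e0 N ((e0 N).symm (e0 ((Scheme.Modules.pushforward g).obj N) (hmap ((Scheme.Modules.pushforward g).map φ) 0 x))) = _
  rw [AddEquiv.apply_symm_apply, e0_hmap, e0_hmap]
  show _ = φ.app ⊤ (e0 M ((e0 M).symm _))
  rw [AddEquiv.apply_symm_apply]
  rfl

variable {A : Type u} [CommRing A] [X.Over (Spec (CommRingCat.of A))] [X'.Over (Spec (CommRingCat.of A))]
  (hg : g ≫ (X ↘ Spec (CommRingCat.of A)) = X' ↘ Spec (CommRingCat.of A))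

include hg in
theorem pushH0_smul (M : X'.Modules) (a : A) (x : Coh.HH X ((Scheme.Modules.pushforward g).obj M) 0) :
    pushH0 g M (a • x) = a • pushH0 g M x := by
  apply (e0 M).injective
  show e0 M ((e0 M).symm (e0 ((Scheme.Modules.pushforward g).obj M) (a • x))) = _
  rw [AddEquiv.apply_symm_apply, Groth.L21.RR.Ring.e0_smul, Groth.L21.RR.Ring.e0_smul]
  show _ = _ • e0 M ((e0 M).symm _)
  rw [AddEquiv.apply_symm_apply]
  have h0 : Coh.toGlobal (X' ↘ Spec (CommRingCat.of A)) a =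
      (show Coh.Γtop X' from g.appTop (Coh.toGlobal (X ↘ Spec (CommRingCat.of A)) a)) :=
    congrArg (fun q : X' ⟶ Spec (CommRingCat.of A) => Coh.toGlobal q a) hg.symm
  rw [h0]
  rfl

/-- Linear identification of the sections. -/
def pushH0L (M : X'.Modules) : Coh.HH X ((Scheme.Modules.pushforward g).obj M) 0 ≃ₗ[A] Coh.HH X' M 0 :=
  { pushH0 g M with map_smul' := fun a x => pushH0_smul g hg M a x }

include hg in
/-- The five term sequence, when the second cohomology of the direct image vanishes. -/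
theorem length_H1_eq [HasInjectiveResolutions X'.Modules] (M : X'.Modules)
    (h2 : Subsingleton (Coh.HH X ((Scheme.Modules.pushforward g).obj M) 2)) :
    Module.length A (Coh.HH X' M 1) =
      Module.length A (Coh.HH X ((Scheme.Modules.pushforward g).obj M) 1) +
        Module.length A (Coh.HH X ((Coh.Rpush g 1).obj M) 0) := by
  let P := Scheme.Modules.pushforward g
  haveI : PreservesLimitsOfSize.{0, 0} P :=
    (Scheme.Modules.pullbackPushforwardAdjunction g).rightAdjoint_preservesLimits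
  haveI : PreservesFiniteLimits P := PreservesLimitsOfSize.preservesFiniteLimits P
  obtain ⟨S, rfl, hS, hI, ⟨eR⟩⟩ := exists_rightDerived_one_cokernel P M
  haveI := hI
  haveI := hS.mono_f
  haveI : Mono (P.map S.f) := inferInstance
  let K := cokernel (P.map S.f)
  let T₁ := ShortComplex.mk (P.map S.f) (cokernel.π (P.map S.f)) (cokernel.condition _)
  have hT₁ : T₁.ShortExact := { exact := ShortComplex.exact_cokernel _ }
  let κ : K ⟶ P.obj S.X₃ :=
    cokernel.desc _ (P.map S.g) (by rw [← P.map_comp, S.zero, P.map_zero])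
  have hex : (S.map P).Exact := by
    haveI : Mono (S.map P).f := inferInstanceAs (Mono (P.map S.f))
    exact ShortComplex.exact_of_f_is_kernel _ (isLimitForkMapOfIsLimit' P _ hS.fIsKernel)
  haveI : Mono κ := hex.mono_cokernelDesc
  have hπκ : cokernel.π (P.map S.f) ≫ κ = P.map S.g := cokernel.π_desc _ _ _
  let T₂ := ShortComplex.mk κ (cokernel.π κ) (cokernel.condition _)
  have hT₂ : T₂.ShortExact := { exact := ShortComplex.exact_cokernel _ }
  let eC : (Coh.Rpush g 1).obj S.X₁ ≅ cokernel κ :=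
    eR ≪≫ cokernelIsoOfEq hπκ.symm ≪≫ cokernelEpiComp (cokernel.π (P.map S.f)) κ
  have hI' : ∀ q, Subsingleton (Coh.HH X' S.X₂ (q + 1)) := fun q =>
    Groth.L22.PDual.subsingleton_HH_injective S.X₂ q
  have hgI : Subsingleton (Coh.HH X (P.obj S.X₂) 1) := Groth.L13.RatSing.subsingleton_HH_push_one g S.X₂ (hI' 0)
  have hK1 : Subsingleton (Coh.HH X K 1) := subsingleton_of_forall_eq 0 fun z => by
    obtain ⟨y, hy⟩ := (exact_hmap_delta hT₁ 1 z).1 (h2.elim _ _)
    rw [← hy, hgI.elim y 0, map_zero]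
  let ov {Y : Scheme.{u}} [Y.Over (Spec (CommRingCat.of A))] {M' N' : Y.Modules} {p q : ℕ}
    (f : Coh.HH Y M' p →ₗ[Coh.Γtop Y] Coh.HH Y N' q) := Groth.L16.CohLinear.overLin A f
  let u : Coh.HH X (P.obj S.X₂) 0 →ₗ[A] Coh.HH X K 0 := ov (hmap T₁.g 0)
  let v : Coh.HH X K 0 →ₗ[A] Coh.HH X' S.X₃ 0 :=
    (pushH0L g hg S.X₃).toLinearMap.comp (ov (hmap κ 0))
  let w : Coh.HH X' S.X₃ 0 →ₗ[A] Coh.HH X (cokernel κ) 0 :=
    (ov (hmap (cokernel.π κ) 0)).comp (pushH0L g hg S.X₃).symm.toLinearMap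
  have hκinj : Function.Injective (hmap κ 0) := fun a b h => by
    apply (e0 K).injective
    haveI : Mono ((Scheme.Modules.toPresheaf X).map κ) := inferInstance
    have hm : Function.Injective (κ.app ⊤) := (AddCommGrpCat.mono_iff_injective _).1
      (inferInstanceAs (Mono (((Scheme.Modules.toPresheaf X).map κ).app (op ⊤))))
    apply hm
    rw [← e0_hmap, ← e0_hmap, h]
  have hv : Function.Injective v := (pushH0L g hg S.X₃).injective.comp hκinj
  have hδ₁s : Function.Surjective (delta hT₁ 0) := fun z =>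
    (exact_delta_hmap hT₁ 0 z).1 (hgI.elim _ _)
  have hδs : Function.Surjective (delta hS 0) := fun z =>
    (exact_delta_hmap hS 0 z).1 ((hI' 0).elim _ _)
  have hvu : ∀ x, v (u x) = hmap S.g 0 (pushH0 g S.X₂ x) := fun x => by
    show pushH0 g S.X₃ (hmap κ 0 (hmap T₁.g 0 x)) = _
    rw [← hmap_comp, show T₁.g ≫ κ = P.map S.g from hπκ, pushH0_hmap]
  have h : Function.Exact (v.comp u) (ov (delta hS 0)) := fun q => by
    refine (exact_hmap_delta hS 0 q).trans ⟨fun ⟨x, hx⟩ => ?_, fun ⟨x, hx⟩ => ?_⟩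
    · refine ⟨(pushH0 g S.X₂).symm x, ?_⟩
      rw [LinearMap.comp_apply, hvu, AddEquiv.apply_symm_apply, hx]
    · exact ⟨pushH0 g S.X₂ x, (hvu x).symm.trans hx⟩
  have h₂ : Function.Exact v w := fun q => by
    refine (exact_hmap_hmap hT₂ 0 _).trans ⟨fun ⟨k, hk⟩ => ⟨k, ?_⟩, fun ⟨k, hk⟩ => ⟨k, ?_⟩⟩
    · exact (congrArg (pushH0L g hg S.X₃) hk).trans ((pushH0L g hg S.X₃).apply_symm_apply q)
    · exact ((LinearEquiv.symm_apply_eq _).2 hk.symm).symm
  have s₂ : Function.Surjective w := fun z => by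
    obtain ⟨y, hy⟩ := (exact_hmap_delta hT₂ 0 z).1 (hK1.elim _ _)
    refine ⟨pushH0L g hg S.X₃ y, ?_⟩
    show hmap (cokernel.π κ) 0 ((pushH0L g hg S.X₃).symm (pushH0L g hg S.X₃ y)) = z
    rw [LinearEquiv.symm_apply_apply]
    exact hy
  have hmain := length_quotient_range u v hv (ov (delta hT₁ 0))
    (fun z => exact_hmap_delta hT₁ 0 z) hδ₁s (ov (delta hS 0)) h hδs w h₂ s₂
  rw [hmain]
  congr 1
  let eL : Coh.HH X ((Coh.Rpush g 1).obj S.X₁) 0 ≃ₗ[A] Coh.HH X (cokernel κ) 0 :=
    LinearEquiv.ofLinearMap (ov (hmap eC.hom 0)) (ov (hmap eC.inv 0))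
      (LinearMap.ext fun x => by
        show hmap eC.hom 0 (hmap eC.inv 0 x) = x
        rw [← hmap_comp, eC.inv_hom_id, Groth.L16.CohLinear.hmap_id])
      (LinearMap.ext fun x => by
        show hmap eC.inv 0 (hmap eC.hom 0 x) = x
        rw [← hmap_comp, eC.hom_inv_id, Groth.L16.CohLinear.hmap_id])
  exact eL.symm.length_eq

end Groth.L13.LerayFive
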