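import Mathlib.CategoryTheory.Abelian.RightDerived
import Mathlib.CategoryTheory.Abelian.Injective.Resolution
import Mathlib.CategoryTheory.Limits.Preserves.Shapes.Kernels

/-!
# The first right derived functor as a cokernel
-/

set_option autoImplicit false
set_option backward.isDefEq.respectTransparency false

universe v u v' u'

open CategoryTheory CategoryTheory.Limits

noncomputable section

namespace Groth.L13.LerayFive

variable {C : Type u} [Category.{v} C] [Abelian C] [HasInjectiveResolutions C]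
  {D : Type u'} [Category.{v'} D] [Abelian D]

/-- The first right derived functor of a left exact functor is the cokernel of the image of a short exact
sequence with injective middle term. -/
theorem exists_rightDerived_one_cokernel (F : C ⥤ D) [F.Additive] [PreservesFiniteLimits F] (M : C) :
    ∃ S : ShortComplex C, S.X₁ = M ∧ S.ShortExact ∧ Injective S.X₂ ∧
      Nonempty ((F.rightDerived 1).obj M ≅ cokernel (F.map S.g)) := by
  let R := injectiveResolution M
  let π : R.cocomplex.X 0 ⟶ kernel (R.cocomplex.d 1 2) :=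
    kernel.lift _ (R.cocomplex.d 0 1) (R.cocomplex.d_comp_d 0 1 2)
  have hπ : π ≫ kernel.ι _ = R.cocomplex.d 0 1 := kernel.lift_ι _ _ _
  have hιπ : R.ι.f 0 ≫ π = 0 := by
    rw [← cancel_mono (kernel.ι (R.cocomplex.d 1 2)), Category.assoc, hπ, R.ι_f_zero_comp_complex_d, zero_comp]
  let S := ShortComplex.mk (X₁ := M) (R.ι.f 0) π hιπ
  haveI : Epi π := (R.exact_succ 0).epi_kernelLift
  have hex : S.Exact := by
    let φ : S ⟶ ShortComplex.mk _ _ R.ι_f_zero_comp_complex_d :=
      { τ₁ := 𝟙 _, τ₂ := 𝟙 _, τ₃ := kernel.ι _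
        comm₁₂ := (Category.id_comp _).trans (Category.comp_id _).symm
        comm₂₃ := (Category.id_comp _).trans hπ.symm }
    haveI : Epi φ.τ₁ := inferInstanceAs (Epi (𝟙 _))
    haveI : IsIso φ.τ₂ := inferInstanceAs (IsIso (𝟙 _))
    haveI : Mono φ.τ₃ := inferInstanceAs (Mono (kernel.ι _))
    exact (ShortComplex.exact_iff_of_epi_of_isIso_of_mono φ).2 R.exact₀
  haveI : Mono S.f := inferInstanceAs (Mono (R.ι.f 0))
  haveI : Epi S.g := inferInstanceAs (Epi π)
  refine ⟨S, rfl, ⟨hex⟩, inferInstanceAs (Injective (R.cocomplex.X 0)), ?_⟩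
  let K := (F.mapHomologicalComplex (.up ℕ)).obj R.cocomplex
  let e := PreservesKernel.iso F (R.cocomplex.d 1 2)
  have h : kernel.lift (K.sc' 0 1 2).g (K.sc' 0 1 2).f (K.sc' 0 1 2).zero = F.map π ≫ e.hom := by
    rw [← cancel_mono (kernel.ι _), kernel.lift_ι, Category.assoc]
    show F.map (R.cocomplex.d 0 1) = F.map π ≫ e.hom ≫ kernel.ι (F.map (R.cocomplex.d 1 2))
    rw [PreservesKernel.iso_hom, kernelComparison_comp_ι, ← F.map_comp, hπ]
  exact ⟨R.isoRightDerivedObj F 1 ≪≫ ShortComplex.homologyMapIso (K.isoSc' 0 1 2 (by simp) (by simp)) ≪≫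
    (ShortComplex.LeftHomologyData.ofHasKernelOfHasCokernel (K.sc' 0 1 2)).homologyIso ≪≫
    cokernelIsoOfEq h ≪≫ cokernelCompIsIso (F.map π) e.hom⟩

end Groth.L13.LerayFive
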